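import Mathlib.RingTheory.PowerSeries.WellKnown
import Mathlib.Algebra.BigOperators.Pi
import Mathlib.Algebra.BigOperators.Fin
import Mathlib.Data.Fintype.BigOperators
import Mathlib.Algebra.Polynomial.Coeff
import Mathlib.Data.Nat.Choose.Sum
import Mathlib.Algebra.Ring.GeomSum

/-!
# Counting exponent vectors by generating series
-/

noncomputable section

namespace Groth.Agent.Lib.FrobUnst

open PowerSeries Finset

/-- The weight of one exponent. -/
def w (e : ℕ) : PowerSeries ℤ := if 1 ≤ e then (X : PowerSeries ℤ) ^ e else 0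

/-- The series of admissible exponents below `p`. -/
def gser (p : ℕ) : PowerSeries ℤ := ∑ e : Fin p, w e

lemma prod_w {n : ℕ} (e : Fin n → ℕ) :
    ∏ i, w (e i) = if ∀ i, 1 ≤ e i then (X : PowerSeries ℤ) ^ ∑ i, e i else 0 := by
  split
  · next h =>
    rw [← Finset.prod_pow_eq_pow_sum]
    exact Finset.prod_congr rfl fun i _ => if_pos (h i)
  · next h =>
    push Not at h
    obtain ⟨i, hi⟩ := h
    exact Finset.prod_eq_zero (Finset.mem_univ i) (if_neg (Nat.not_le.2 hi))

lemma sum_pow_eq {ι R : Type*} [Fintype ι] [DecidableEq ι] [CommSemiring R] (f : ι → R) (n : ℕ) :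
    (∑ i, f i) ^ n = ∑ e : Fin n → ι, ∏ t, f (e t) := Fintype.sum_pow f n

lemma card_eq_coeff (p n s : ℕ) :
    (Fintype.card {e : Fin n → Fin p // (∀ i, 1 ≤ (e i : ℕ)) ∧ ∑ i, (e i : ℕ) = s} : ℤ) =
      coeff s (gser p ^ n) := by
  classical
  rw [Fintype.card_subtype, ← Finset.sum_boole, gser, sum_pow_eq, map_sum]
  refine Finset.sum_congr rfl fun e _ => ?_
  rw [prod_w]
  by_cases h : ∀ i, 1 ≤ (e i : ℕ)
  · rw [if_pos h, coeff_X_pow]
    simp [h, eq_comm]
  · rw [if_neg h, map_zero, if_neg fun h' => h h'.1]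

lemma gser_succ (m : ℕ) : gser (m + 1) = X * ∑ j ∈ range m, (X : PowerSeries ℤ) ^ j := by
  rw [gser, Fin.sum_univ_eq_sum_range w, Finset.sum_range_succ', Finset.mul_sum]
  simp [w, pow_succ']

lemma gser_mul (p : ℕ) : gser p * (1 - X) = X * (1 - X ^ (p - 1)) := by
  cases p with
  | zero => simp [gser]
  | succ m => rw [gser_succ, mul_assoc, geom_sum_mul_neg, Nat.add_sub_cancel]

theorem coeff_gser_pow (p n s : ℕ) (hn : 1 ≤ n) :
    coeff s (gser p ^ n) = ∑ i ∈ range (n + 1), (-1 : ℤ) ^ i * (n.choose i : ℤ) *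
      (if i * (p - 1) + n ≤ s then (((s - i * (p - 1) - 1).choose (n - 1) : ℕ) : ℤ) else 0) := by
  obtain ⟨d, rfl⟩ : ∃ d, n = d + 1 := ⟨n - 1, by omega⟩
  set u := invOneSubPow ℤ (d + 1)
  have hu : (u : PowerSeries ℤ) * (1 - X) ^ (d + 1) = 1 := by
    rw [← invOneSubPow_inv_eq_one_sub_pow]
    exact u.val_inv
  have hG : gser p ^ (d + 1) = (X * (1 - X ^ (p - 1))) ^ (d + 1) * (u : PowerSeries ℤ) := by
    rw [← gser_mul, mul_pow, mul_assoc, mul_comm ((1 - X) ^ (d + 1)), hu, mul_one]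
  rw [hG, mul_pow, sub_eq_neg_add, add_pow, Finset.mul_sum, Finset.sum_mul, map_sum,
    invOneSubPow_val_succ_eq_mk_add_choose]
  refine Finset.sum_congr rfl fun i _ => ?_
  rw [one_pow, mul_one, neg_pow, ← pow_mul]
  have e : (X : PowerSeries ℤ) ^ (d + 1) * ((-1) ^ i * X ^ ((p - 1) * i) * ((d + 1).choose i : PowerSeries ℤ)) *
      (mk fun j => ((d + j).choose d : ℤ)) =
      C ((-1 : ℤ) ^ i * ((d + 1).choose i : ℤ)) * (X ^ (i * (p - 1) + (d + 1)) * mk fun j => ((d + j).choose d : ℤ)) := by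
    rw [map_mul, map_pow, map_neg, map_one, map_natCast, pow_add, mul_comm i]
    ring
  rw [e, coeff_C_mul, coeff_X_pow_mul', coeff_mk, Nat.add_sub_cancel]
  refine congrArg _ (if_ctx_congr Iff.rfl (fun h => ?_) fun _ => rfl)
  rw [show d + (s - (i * (p - 1) + (d + 1))) = s - i * (p - 1) - 1 by omega]

theorem card_small (m n s D : ℕ) :
    (Fintype.card {e : Fin n → Fin (2 * m + 1) // (∀ i, 1 ≤ (e i : ℕ)) ∧ ∑ i, (e i : ℕ) = s ∧
        (Finset.univ.filter fun i => 2 * (e i : ℕ) < 2 * m + 1).card = D} : ℤ) =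
      (n.choose D : ℤ) * coeff s (X ^ (m * (n - D)) * (gser (m + 1) ^ D * gser (m + 1) ^ (n - D))) := by
  classical
  let f : ℕ → Polynomial (PowerSeries ℤ) := fun e =>
    Polynomial.C (w e) * Polynomial.X ^ (if 2 * e < 2 * m + 1 then 1 else 0)
  have hpoly : ∑ e : Fin (2 * m + 1), f e =
      Polynomial.C (gser (m + 1)) * Polynomial.X + Polynomial.C ((X : PowerSeries ℤ) ^ m * gser (m + 1)) := by
    rw [Fin.sum_univ_eq_sum_range f, show 2 * m + 1 = (m + 1) + m by omega, Finset.sum_range_add]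
    congr 1
    · rw [gser, Fin.sum_univ_eq_sum_range w, map_sum, Finset.sum_mul]
      refine Finset.sum_congr rfl fun e he => ?_
      simp only [f]
      rw [if_pos (by rw [Finset.mem_range] at he; omega), pow_one]
    · rw [gser_succ, Finset.mul_sum, Finset.mul_sum, map_sum]
      refine Finset.sum_congr rfl fun e _ => ?_
      simp only [f]
      rw [if_neg (by omega), pow_zero, mul_one, w, if_pos (by omega), ← pow_succ', ← pow_add]
      congr 2
      omega
  have hcount : (Fintype.card {e : Fin n → Fin (2 * m + 1) // (∀ i, 1 ≤ (e i : ℕ)) ∧ ∑ i, (e i : ℕ) = s ∧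
        (Finset.univ.filter fun i => 2 * (e i : ℕ) < 2 * m + 1).card = D} : ℤ) =
      coeff s (((∑ e : Fin (2 * m + 1), f e) ^ n).coeff D) := by
    rw [Fintype.card_subtype, ← Finset.sum_boole, sum_pow_eq, Polynomial.finsetSum_coeff, map_sum]
    refine Finset.sum_congr rfl fun e _ => ?_
    simp only [f, Finset.prod_mul_distrib, ← map_prod, Finset.prod_pow_eq_pow_sum, ← Finset.card_filter,
      Polynomial.coeff_C_mul_X_pow, prod_w]
    by_cases h : ∀ i, 1 ≤ (e i : ℕ)
    · by_cases h' : D = (Finset.univ.filter fun i => 2 * (e i : ℕ) < 2 * m + 1).card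
      · rw [if_pos h, if_pos h', coeff_X_pow]
        exact if_congr ⟨fun hh => hh.2.1.symm, fun hh => ⟨h, hh.symm, h'.symm⟩⟩ rfl rfl
      · rw [if_neg h', map_zero, if_neg fun hh => h' hh.2.2.symm]
    · rw [if_neg h, if_neg fun hh => h hh.1]
      split <;> simp
  rw [hcount, hpoly, add_pow, Polynomial.finsetSum_coeff]
  simp only [mul_pow, ← map_pow, ← map_natCast (Polynomial.C : PowerSeries ℤ →+* _)]
  have e : ∀ j, (Polynomial.C (gser (m + 1) ^ j) * Polynomial.X ^ j *
      Polynomial.C (((X : PowerSeries ℤ) ^ m) ^ (n - j) * gser (m + 1) ^ (n - j)) *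
      Polynomial.C ((n.choose j : ℕ) : PowerSeries ℤ)).coeff D =
      if D = j then ((n.choose j : ℕ) : PowerSeries ℤ) *
        (X ^ (m * (n - j)) * (gser (m + 1) ^ j * gser (m + 1) ^ (n - j))) else 0 := by
    intro j
    rw [show ∀ a b c : PowerSeries ℤ, Polynomial.C a * Polynomial.X ^ j * Polynomial.C b * Polynomial.C c =
      Polynomial.C (a * b * c) * Polynomial.X ^ j from fun a b c => by rw [map_mul, map_mul]; ring,
      Polynomial.coeff_C_mul_X_pow, ← pow_mul]
    split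
    · ring
    · rfl
  simp only [e, Finset.sum_ite_eq, Finset.mem_range]
  split
  · rw [← map_natCast (C : ℤ →+* PowerSeries ℤ), coeff_C_mul]
  · next h => rw [map_zero, Nat.choose_eq_zero_of_lt (by omega), Nat.cast_zero, zero_mul]

theorem card_small_formula (p n s D : ℕ) (hp : Odd p) :
    Fintype.card {e : Fin n → Fin p // (∀ i, 1 ≤ (e i : ℕ)) ∧ ∑ i, (e i : ℕ) = s ∧
        (Finset.univ.filter fun i => 2 * (e i : ℕ) < p).card = D} =
      n.choose D * ∑ j ∈ Finset.range (s + 1),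
        Fintype.card {e : Fin D → Fin ((p + 1) / 2) // (∀ i, 1 ≤ (e i : ℕ)) ∧ ∑ i, (e i : ℕ) = j} *
          Fintype.card {e : Fin (n - D) → Fin ((p + 1) / 2) // (∀ i, 1 ≤ (e i : ℕ)) ∧ ∑ i, (e i : ℕ) = (s - j - (n - D) * ((p - 1) / 2))} := by
  obtain ⟨m, rfl⟩ := hp
  rw [show (2 * m + 1 + 1) / 2 = m + 1 by omega, show (2 * m + 1 - 1) / 2 = m by omega]
  rcases Nat.lt_or_ge n D with hD | hD
  · rw [Nat.choose_eq_zero_of_lt hD, zero_mul, Fintype.card_eq_zero_iff]
    refine ⟨fun e => ?_⟩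
    have := e.2.2.2
    have := (Finset.univ.filter fun i => 2 * (e.1 i : ℕ) < 2 * m + 1).card_le_univ
    simp only [Fintype.card_fin] at this
    omega
  refine Nat.cast_injective (R := ℤ) ?_
  rw [Nat.cast_mul, Nat.cast_sum, card_small, mul_left_comm, coeff_mul, Nat.sum_antidiagonal_eq_sum_range_succ_mk]
  refine congrArg _ (Finset.sum_congr rfl fun j hj => ?_)
  rw [Finset.mem_range] at hj
  rw [Nat.cast_mul, card_eq_coeff, card_eq_coeff]
  refine congrArg _ ?_
  rw [coeff_X_pow_mul', mul_comm m]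
  by_cases hk : (n - D) * m ≤ s - j
  · rw [if_pos hk]
  · rw [if_neg hk, show s - j - (n - D) * m = 0 by omega]
    obtain ⟨d, hd⟩ : ∃ d, n - D = d + 1 := ⟨n - D - 1, by
      rcases Nat.eq_zero_or_pos (n - D) with h | h
      · simp [h] at hk
      · omega⟩
    rw [hd, pow_succ, coeff_mul, Finset.Nat.antidiagonal_zero, Finset.sum_singleton, gser_succ, coeff_zero_X_mul,
      mul_zero]

end Groth.Agent.Lib.FrobUnst
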