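import Mathlib.RingTheory.PowerSeries.Inverse
import Mathlib.LinearAlgebra.Matrix.Determinant.Basic
import Mathlib.LinearAlgebra.Matrix.NonsingularInverse
import Mathlib.LinearAlgebra.Matrix.Block
import Mathlib.LinearAlgebra.Matrix.Permutation
import Mathlib.Tactic.LinearCombination
import Mathlib.RingTheory.NonUnitalSubring.Basic

/-!
# Row reduced forms over power series
-/

noncomputable section

namespace Groth.Agent.Lib.FrobUnst

open Matrix PowerSeries

section blk

variable {R : Type*} [CommRing R] {r : ℕ}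

/-- The block matrix `[a v; 0 H]`. -/
def blk (a : R) (v : Fin r → R) (H : Matrix (Fin r) (Fin r) R) : Matrix (Fin (r + 1)) (Fin (r + 1)) R :=
  Matrix.of (Fin.cons (Fin.cons a v) fun i => Fin.cons 0 (H i))

@[simp] lemma blk_zero_zero (a : R) (v : Fin r → R) (H : Matrix (Fin r) (Fin r) R) : blk a v H 0 0 = a := rfl

@[simp] lemma blk_zero_succ (a : R) (v : Fin r → R) (H : Matrix (Fin r) (Fin r) R) (j : Fin r) :
    blk a v H 0 j.succ = v j := by simp [blk]

@[simp] lemma blk_succ_zero (a : R) (v : Fin r → R) (H : Matrix (Fin r) (Fin r) R) (i : Fin r) :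
    blk a v H i.succ 0 = 0 := by simp [blk]

@[simp] lemma blk_succ_succ (a : R) (v : Fin r → R) (H : Matrix (Fin r) (Fin r) R) (i j : Fin r) :
    blk a v H i.succ j.succ = H i j := by simp [blk]

lemma blk_mul (a a' : R) (v v' : Fin r → R) (H H' : Matrix (Fin r) (Fin r) R) :
    blk a v H * blk a' v' H' = blk (a * a') (a • v' + v ᵥ* H') (H * H') := by
  ext i j
  rw [mul_apply, Fin.sum_univ_succ]
  cases i using Fin.cases <;> cases j using Fin.cases <;> simp [vecMul, dotProduct, mul_apply]

lemma eq_blk (M : Matrix (Fin (r + 1)) (Fin (r + 1)) R) (h : ∀ i : Fin r, M i.succ 0 = 0) :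
    M = blk (M 0 0) (fun j => M 0 j.succ) (M.submatrix Fin.succ Fin.succ) := by
  ext i j
  cases i using Fin.cases <;> cases j using Fin.cases <;> simp [h]

lemma det_blk (a : R) (v : Fin r → R) (H : Matrix (Fin r) (Fin r) R) : (blk a v H).det = a * H.det := by
  rw [det_succ_column_zero, Fin.sum_univ_succ]
  simp only [blk_succ_zero, mul_zero, zero_mul, Finset.sum_const_zero, add_zero]
  simp only [blk_zero_zero, Fin.val_zero, pow_zero, one_mul, Fin.succAbove_zero]
  congr 2

lemma isUnit_blk {a : R} (v : Fin r → R) {H : Matrix (Fin r) (Fin r) R} (ha : IsUnit a) (hH : IsUnit H) :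
    IsUnit (blk a v H) := by
  rw [isUnit_iff_isUnit_det, det_blk]
  exact ha.mul ((isUnit_iff_isUnit_det _).1 hH)

end blk

variable {k : Type*} [Field k]

/-- Upper triangular with the given powers of the variable on the diagonal and reduced entries. -/
def Reduced {r : ℕ} (Bad : ℕ → ℕ → Prop) (e : Fin r → ℕ) (H : Matrix (Fin r) (Fin r) (PowerSeries k)) : Prop :=
  (∀ i, H i i = X ^ e i) ∧ (∀ i j, j < i → H i j = 0) ∧
    ∀ i j, i < j → ∀ n, (e j ≤ n ∨ Bad (e i) n) → coeff n (H i j) = 0

variable (Q : NonUnitalSubring (PowerSeries k)) (Bad : ℕ → ℕ → Prop)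
  (hsplit : ∀ (e f : ℕ) (x : PowerSeries k), ∃ (y q c : PowerSeries k), q ∈ Q ∧
    (∀ n, (f ≤ n ∨ Bad e n) → coeff n y = 0) ∧ x = y + X ^ e * q + c * X ^ f)

include hsplit in
/-- Reducing a row against a reduced matrix. -/
lemma exists_reduce_row (e : ℕ) : ∀ {r : ℕ} (f : Fin r → ℕ) (H : Matrix (Fin r) (Fin r) (PowerSeries k)),
    (∀ i, H i i = X ^ f i) → (∀ i j, j < i → H i j = 0) → ∀ v : Fin r → PowerSeries k,
      ∃ c q : Fin r → PowerSeries k, (∀ j, q j ∈ Q) ∧
        ∀ j n, (f j ≤ n ∨ Bad e n) → coeff n ((v + c ᵥ* H + (X : PowerSeries k) ^ e • q) j) = 0 := by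
  intro r
  induction r with
  | zero => intro f H _ _ v; exact ⟨0, 0, fun j => j.elim0, fun j => j.elim0⟩
  | succ r ih =>
    intro f H hd hu v
    obtain ⟨y, q₀, c₀, hq₀, hy, hv⟩ := hsplit e (f 0) (v 0)
    obtain ⟨c, q, hq, hc⟩ := ih (fun i => f i.succ) (H.submatrix Fin.succ Fin.succ) (fun i => hd i.succ)
      (fun i j hij => hu i.succ j.succ (Fin.succ_lt_succ_iff.2 hij))
      (fun j => v j.succ - c₀ * H 0 j.succ)
    refine ⟨Fin.cons (-c₀) c, Fin.cons (-q₀) q, Fin.cases (by simpa using Q.neg_mem hq₀) (by simpa using hq), ?_⟩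
    intro j n hn
    cases j using Fin.cases with
    | zero =>
      convert hy n hn using 2
      simp only [Pi.add_apply, Pi.smul_apply, smul_eq_mul, vecMul, dotProduct, Fin.sum_univ_succ,
        Fin.cons_zero, Fin.cons_succ]
      rw [Finset.sum_eq_zero fun i _ => by rw [hu i.succ 0 (Fin.succ_pos i), mul_zero], hd 0, hv]
      ring
    | succ j =>
      convert hc j n hn using 2
      simp only [Pi.add_apply, Pi.smul_apply, smul_eq_mul, vecMul, dotProduct, Fin.sum_univ_succ,
        Fin.cons_zero, Fin.cons_succ, submatrix_apply]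
      ring

/-- Triangular form with powers of the variable in the first column. -/
lemma exists_first_column {r : ℕ} (M : Matrix (Fin (r + 1)) (Fin (r + 1)) (PowerSeries k)) (hM : M.det ≠ 0) :
    ∃ (N : Matrix (Fin (r + 1)) (Fin (r + 1)) (PowerSeries k)) (e : ℕ) (v : Fin r → PowerSeries k)
      (M' : Matrix (Fin r) (Fin r) (PowerSeries k)), IsUnit N ∧ M'.det ≠ 0 ∧ N * M = blk (X ^ e) v M' := by
  classical
  have hex : ∃ n, ∃ i, coeff n (M i 0) ≠ 0 := by
    by_contra hcon
    push Not at hcon
    exact hM (det_eq_zero_of_column_eq_zero 0 fun i => PowerSeries.ext fun n => by simp [hcon n i])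
  obtain ⟨i₀, hi₀⟩ := Nat.find_spec hex
  set e := Nat.find hex
  have hdvd : ∀ i, (X : PowerSeries k) ^ e ∣ M i 0 := fun i =>
    X_pow_dvd_iff.2 fun n hn => not_not.1 fun h => Nat.find_min hex hn ⟨i, h⟩
  choose b hb using hdvd
  have hb₀ : IsUnit (b i₀) := by
    rw [isUnit_iff_constantCoeff, isUnit_iff_ne_zero, ← coeff_zero_eq_constantCoeff_apply]
    intro h
    rw [hb i₀] at hi₀
    have := coeff_X_pow_mul (b i₀) e 0
    rw [zero_add] at this
    exact hi₀ (this.trans h)
  obtain ⟨u, hu⟩ := hb₀
  set σ : Equiv.Perm (Fin (r + 1)) := Equiv.swap 0 i₀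
  let L : Matrix (Fin (r + 1)) (Fin (r + 1)) (PowerSeries k) := Matrix.of fun i j =>
    if j = 0 then (if i = 0 then ↑u⁻¹ else -(b (σ i) * ↑u⁻¹)) else if i = j then 1 else 0
  have hLdet : IsUnit L.det := by
    rw [det_of_lowerTriangular L fun i j (hij : i < j) => ?_]
    · rw [Fin.prod_univ_succ]
      simp [L]
    · simp [L, Fin.ne_of_gt (lt_of_le_of_lt (Fin.zero_le i) hij), hij.ne]
  set P : Matrix (Fin (r + 1)) (Fin (r + 1)) (PowerSeries k) := σ.permMatrix (PowerSeries k)
  have hP : IsUnit P := (isUnit_iff_isUnit_det _).2 (by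
    rw [det_permutation]
    exact (Equiv.Perm.sign σ).isUnit.map (Int.castRingHom (PowerSeries k)))
  have hN : IsUnit (L * P) := ((isUnit_iff_isUnit_det _).2 hLdet).mul hP
  have happly : ∀ i, (L * P * M) i 0 = if i = 0 then X ^ e else 0 := by
    intro i
    rw [mul_assoc, mul_apply, Fin.sum_univ_succ]
    have hPM : ∀ j, (P * M) j 0 = X ^ e * b (σ j) := fun j => by
      simp [P, Equiv.Perm.permMatrix, PEquiv.toMatrix_toPEquiv_mul, hb]
    cases i using Fin.cases with
    | zero =>
      simp only [hPM, L, of_apply, if_true]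
      rw [Finset.sum_eq_zero fun j _ => by rw [if_neg (Fin.succ_ne_zero j), if_neg (Fin.succ_ne_zero j).symm, zero_mul],
        show σ 0 = i₀ from Equiv.swap_apply_left 0 i₀, ← hu, mul_left_comm, Units.inv_mul, mul_one, add_zero]
    | succ i =>
      simp only [hPM, L, of_apply, if_true, if_neg (Fin.succ_ne_zero i), if_neg (Fin.succ_ne_zero _), ite_mul,
        one_mul, zero_mul, Fin.succ_inj, Finset.sum_ite_eq, Finset.mem_univ]
      rw [show σ 0 = i₀ from Equiv.swap_apply_left 0 i₀, ← hu]
      linear_combination (-(X : PowerSeries k) ^ e * b (σ i.succ)) * u.inv_mul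
  have hblk := eq_blk (L * P * M) fun i => by rw [happly, if_neg (Fin.succ_ne_zero i)]
  rw [happly 0, if_pos rfl] at hblk
  refine ⟨L * P, e, _, _, hN, ?_, hblk⟩
  intro h0
  have h1 : (L * P * M).det = 0 := by rw [hblk, det_blk, h0, mul_zero]
  rw [det_mul] at h1
  exact hM ((mul_eq_zero.1 h1).resolve_left ((isUnit_iff_isUnit_det _).1 hN).ne_zero)

include hsplit in
/-- Reduced forms exist. -/
theorem exists_reduced : ∀ {r : ℕ} (M : Matrix (Fin r) (Fin r) (PowerSeries k)), M.det ≠ 0 →
    ∃ (N P : Matrix (Fin r) (Fin r) (PowerSeries k)) (e : Fin r → ℕ), IsUnit N ∧ IsUnit P ∧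
      (∀ i j, P i j - (1 : Matrix _ _ _) i j ∈ Q) ∧ Reduced Bad e (N * M * P) := by
  intro r
  induction r with
  | zero =>
    intro M _
    exact ⟨1, 1, Fin.elim0, isUnit_one, isUnit_one, fun i => i.elim0, fun i => i.elim0, fun i => i.elim0,
      fun i => i.elim0⟩
  | succ r ih =>
    intro M hM
    obtain ⟨N₁, e₀, v, M', hN₁, hM', h1⟩ := exists_first_column M hM
    obtain ⟨N', P', f, hN', hP', hPQ, hd, hu, hcoef⟩ := ih M' hM'
    obtain ⟨c, q, hq, hc⟩ := exists_reduce_row Q Bad hsplit e₀ f (N' * M' * P') hd hu (v ᵥ* P')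
    refine ⟨blk 1 c 1 * blk 1 0 N' * N₁, blk 1 0 P' * blk 1 q 1, Fin.cons e₀ f,
      ((isUnit_blk c isUnit_one isUnit_one).mul (isUnit_blk 0 isUnit_one hN')).mul hN₁,
      (isUnit_blk 0 isUnit_one hP').mul (isUnit_blk q isUnit_one isUnit_one), ?_, ?_⟩
    · have hone : (1 : Matrix (Fin (r + 1)) (Fin (r + 1)) (PowerSeries k)) = blk 1 0 1 := by
        ext i j
        cases i using Fin.cases <;> cases j using Fin.cases <;> simp [one_apply, (Fin.succ_ne_zero _).symm]
      intro i j
      rw [blk_mul, hone]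
      cases i using Fin.cases <;> cases j using Fin.cases
      · simp
      · simpa using hq _
      · simp
      · simpa using hPQ _ _
    · have key : blk 1 c 1 * blk 1 0 N' * N₁ * M * (blk 1 0 P' * blk 1 q 1) =
          blk (X ^ e₀) (v ᵥ* P' + c ᵥ* (N' * M' * P') + (X : PowerSeries k) ^ e₀ • q) (N' * M' * P') := by
        rw [mul_assoc (blk 1 c 1 * blk 1 0 N') N₁ M, h1, ← mul_assoc, mul_assoc (blk 1 c 1), blk_mul,
          blk_mul, blk_mul, blk_mul]
        simp [add_vecMul, vecMul_vecMul, add_comm, smul_vecMul]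
      rw [key]
      refine ⟨?_, ?_, ?_⟩
      · intro i
        cases i using Fin.cases with
        | zero => simp
        | succ i => simp [hd]
      · intro i j hij
        cases i using Fin.cases with
        | zero => exact absurd hij (Fin.not_lt_zero j)
        | succ i =>
          cases j using Fin.cases with
          | zero => simp
          | succ j => simpa using hu i j (Fin.succ_lt_succ_iff.1 hij)
      · intro i j hij n hn
        cases j using Fin.cases with
        | zero => exact absurd hij (Fin.not_lt_zero i)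
        | succ j =>
          cases i using Fin.cases with
          | zero => simpa using hc j n (by simpa using hn)
          | succ i => simpa using hcoef i j (Fin.succ_lt_succ_iff.1 hij) n (by simpa using hn)

/-- Reduced forms are unique. -/
theorem reduced_unique {r : ℕ} {e e' : Fin r → ℕ} {H H' U : Matrix (Fin r) (Fin r) (PowerSeries k)}
    (hH : Reduced (fun _ _ => False) e H) (hH' : Reduced (fun _ _ => False) e' H') (hU : IsUnit U)
    (h : U * H = H') : H = H' := by
  have hXne : ∀ n : ℕ, (X : PowerSeries k) ^ n ≠ 0 := fun n => pow_ne_zero n X_ne_zero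
  have hlow : ∀ (j i : Fin r), j < i → U i j = 0 := by
    intro j
    induction j using WellFoundedLT.induction with
    | _ j ih =>
      intro i hij
      have h0 := congrFun (congrFun h i) j
      rw [hH'.2.1 i j hij, mul_apply, Finset.sum_eq_single j, hH.1 j] at h0
      · exact (mul_eq_zero.1 h0).resolve_right (hXne _)
      · intro l _ hl
        rcases lt_or_gt_of_ne hl with hlj | hlj
        · rw [ih l hlj i (hlj.trans hij), zero_mul]
        · rw [hH.2.1 l j hlj, mul_zero]
      · exact fun hh => absurd (Finset.mem_univ j) hh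
  have hUd : ∀ i, IsUnit (U i i) := by
    have hdet := (isUnit_iff_isUnit_det U).1 hU
    rw [det_of_upperTriangular fun i j hij => hlow j i hij] at hdet
    exact fun i => isUnit_of_dvd_unit (Finset.dvd_prod_of_mem (fun l => U l l) (Finset.mem_univ i)) hdet
  have hdiag : ∀ i, e' i = e i ∧ U i i = 1 := fun i => by
    have h0 := congrFun (congrFun h i) i
    rw [hH'.1 i, mul_apply, Finset.sum_eq_single i, hH.1 i] at h0
    · have he : e' i = e i := by
        have h1 := congrArg PowerSeries.order h0
        rw [order_mul, order_X_pow, order_X_pow, order_zero_of_unit (hUd i), zero_add] at h1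
        exact_mod_cast h1.symm
      rw [he] at h0
      exact ⟨he, (mul_eq_right₀ (hXne _)).1 h0⟩
    · intro l _ hl
      rcases lt_or_gt_of_ne hl with hli | hli
      · rw [hlow l i hli, zero_mul]
      · rw [hH.2.1 l i hli, mul_zero]
    · exact fun hh => absurd (Finset.mem_univ i) hh
  have hup : ∀ (j i : Fin r), i < j → U i j = 0 := by
    intro j
    induction j using WellFoundedLT.induction with
    | _ j ih =>
      intro i hij
      have h0 := congrFun (congrFun h i) j
      rw [mul_apply, ← Finset.add_sum_erase _ _ (Finset.mem_univ j),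
        ← Finset.add_sum_erase _ _ (Finset.mem_erase.2 ⟨hij.ne, Finset.mem_univ i⟩), hH.1 j, (hdiag i).2, one_mul,
        Finset.sum_eq_zero, add_zero] at h0
      · refine PowerSeries.ext fun n => ?_
        have h1 := congrArg (coeff (n + e j)) h0
        rw [map_add, coeff_mul_X_pow, hH.2.2 i j hij _ (Or.inl (Nat.le_add_left _ _)),
          hH'.2.2 i j hij _ (Or.inl (by rw [(hdiag j).1]; exact Nat.le_add_left _ _)), add_zero] at h1
        rw [h1, map_zero]
      · intro l hl
        simp only [Finset.mem_erase, Finset.mem_univ, and_true] at hl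
        rcases lt_or_gt_of_ne hl.2 with hlj | hlj
        · rcases lt_or_gt_of_ne hl.1 with hli | hli
          · rw [hlow l i hli, zero_mul]
          · rw [ih l hlj i hli, zero_mul]
        · rw [hH.2.1 l j hlj, mul_zero]
  have hU1 : U = 1 := by
    ext i j : 1
    rcases lt_trichotomy i j with hij | rfl | hij
    · rw [hup j i hij, one_apply_ne hij.ne]
    · rw [(hdiag i).2, one_apply_eq]
    · rw [hlow j i hij, one_apply_ne hij.ne']
  rw [← h, hU1, one_mul]

end Groth.Agent.Lib.FrobUnst
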